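/-
Project STD2, chain lemma (T2), part 1: the homocyclic group `Ys` and the construction of the cap.
-/
import Cfsg.Agent.Std2.Defs
import Cfsg.Agent.Fus.StronglyEmb

set_option autoImplicit false
open Cfsg Subgroup CL.Even CL.Grp
open scoped commutatorElement

namespace CL.Std2.ChB

universe u v

variable {G : Type u} [Group G] {F : Type v} [Field F] (S : Sc G F)

theorem cjm {K : Subgroup G} {g x : G} (hg : g ∈ 𝒩(K)) (hx : x ∈ K) : g * x * g⁻¹ ∈ K :=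
  (mem_normalizer_iff.1 hg x).1 hx

/-- The coordinate on `Z`. -/
noncomputable def lg (x : G) : F := Function.invFun S.z x

theorem lg_z (b : F) : lg S (S.z b) = b := Function.leftInverse_invFun S.z_inj b

theorem z_lg {x : G} (hx : x ∈ S.Z) : S.z (lg S x) = x := by
  obtain ⟨b, rfl⟩ := hx
  rw [lg_z]

theorem sq_Z {x : G} (hx : x ∈ S.Z) : x * x = 1 := by
  obtain ⟨b, rfl⟩ := hx
  exact S.z_sq b

theorem chi_ne {h : G} (hh : h ∈ S.H) : S.χ h ≠ 0 := fun e => by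
  have := S.H_z h hh 1
  rw [e, zero_mul, S.z_zero, conj_eq_one_iff, S.z_eq_one] at this
  exact one_ne_zero this

theorem H_comm {h k : G} (hh : h ∈ S.H) (hk : k ∈ S.H) : h * k = k * h := by
  have hm := mul_mem (mul_mem hh hk) (inv_mem (mul_mem hk hh))
  refine mul_inv_eq_one.1 (S.χ_inj _ hm ?_)
  have h1 := S.H_z _ hm (S.χ k * (S.χ h * 1))
  have h2 : h * k * (k * h)⁻¹ * S.z (S.χ k * (S.χ h * 1)) * (h * k * (k * h)⁻¹)⁻¹ = h * (k * S.z 1 * k⁻¹) * h⁻¹ := by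
    rw [← S.H_z k hk, ← S.H_z h hh]; group
  rw [h2, S.H_z k hk, S.H_z h hh] at h1
  have h3 := S.z_inj h1
  have := chi_ne S hh
  have := chi_ne S hk
  exact mul_right_cancel₀ (b := S.χ k * (S.χ h * 1)) (by simp [*]) (by linear_combination -h3)

include S in
theorem exists_ne [Finite F] (a : F) : ∃ μ : F, μ ≠ 0 ∧ μ ≠ a := by
  by_contra h
  push Not at h
  have : Nat.card F ≤ Nat.card Prop := Nat.card_le_card_of_injective (fun x => x = 0) fun x y hxy => by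
    by_cases hx : x = 0
    · rw [hx, hxy.mp hx]
    · rw [h x hx, h y fun e => hx (hxy.mpr e)]
  have h4 := S.four
  simp at this
  omega

include S in
theorem sq_inj {a b : F} (h : a ^ 2 = b ^ 2) : a = b := by
  have : (a + b) ^ 2 = 0 := by linear_combination h + (a * b + b ^ 2) * S.two
  linear_combination (pow_eq_zero_iff two_ne_zero).1 this - b * S.two

/-- An equivariant map with a nonzero value is onto. -/
theorem surj_of {A : Subgroup G} (hA : S.H ≤ 𝒩(A)) {f : G → F} (h1 : f 1 = 0)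
    (he : ∀ h ∈ S.H, ∀ x ∈ A, f (h * x * h⁻¹) = S.χ h * f x) {x : G} (hx : x ∈ A) (h0 : f x ≠ 0) (b : F) :
    ∃ y ∈ A, f y = b := by
  by_cases hb : b = 0
  · exact ⟨1, one_mem _, hb ▸ h1⟩
  obtain ⟨h, hh, e⟩ := S.χ_surj (b / f x) (div_ne_zero hb h0)
  exact ⟨_, cjm (hA hh) hx, by rw [he h hh x hx, e, div_mul_cancel₀ _ h0]⟩

theorem wl_apply [Finite F] (hW : WL2.{v}) {A A' : Subgroup G} (hA : S.H ≤ 𝒩(A)) (hA' : S.H ≤ 𝒩(A')) {f f' : G → F}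
    (fa : ∀ x ∈ A, ∀ y ∈ A, f (x * y) = f x + f y) (fa' : ∀ x ∈ A', ∀ y ∈ A', f' (x * y) = f' x + f' y)
    (fs : ∀ b, ∃ x ∈ A, f x = b) (fs' : ∀ b, ∃ x ∈ A', f' x = b)
    (fe : ∀ h ∈ S.H, ∀ x ∈ A, f (h * x * h⁻¹) = S.χ h * f x) (fe' : ∀ h ∈ S.H, ∀ x ∈ A', f' (h * x * h⁻¹) = S.χ h * f' x)
    {B : G → G → F} (b1 : ∀ x ∈ A, ∀ x' ∈ A, ∀ y ∈ A', B (x * x') y = B x y + B x' y)
    (b2 : ∀ x ∈ A, ∀ y ∈ A', ∀ y' ∈ A', B x (y * y') = B x y + B x y')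
    (v1 : ∀ x ∈ A, ∀ y ∈ A', f x = 0 → B x y = 0) (v2 : ∀ x ∈ A, ∀ y ∈ A', f' y = 0 → B x y = 0)
    (be : ∀ h ∈ S.H, ∀ x ∈ A, ∀ y ∈ A', B (h * x * h⁻¹) (h * y * h⁻¹) = S.χ h * B x y) :
    ∃ κ : F, ∀ x ∈ A, ∀ y ∈ A', B x y ^ 2 = κ * (f x * f' y) := by
  choose s hs es using fs
  choose s' hs' es' using fs'
  have k1 : ∀ x ∈ A, ∀ x' ∈ A, f x = f x' → ∀ y ∈ A', B x y = B x' y := fun x hx x' hx' e y hy => by
    have hu := mul_mem (inv_mem hx') hx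
    have h1 := fa _ hx' _ hu
    have h2 := b1 _ hx' _ hu y hy
    rw [mul_inv_cancel_left] at h1 h2
    rw [h2, v1 _ hu y hy (by linear_combination e - h1), add_zero]
  have k2 : ∀ x ∈ A, ∀ y ∈ A', ∀ y' ∈ A', f' y = f' y' → B x y = B x y' := fun x hx y hy y' hy' e => by
    have hu := mul_mem (inv_mem hy') hy
    have h1 := fa' _ hy' _ hu
    have h2 := b2 x hx _ hy' _ hu
    rw [mul_inv_cancel_left] at h1 h2
    rw [h2, v2 x hx _ hu (by linear_combination e - h1), add_zero]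
  have key : ∀ x ∈ A, ∀ y ∈ A', B (s (f x)) (s' (f' y)) = B x y := fun x hx y hy =>
    (k1 _ (hs _) x hx (es _) _ (hs' _)).trans (k2 x hx _ (hs' _) y hy (es' _))
  refine (hW S.two (fun a b => B (s a) (s' b)) (fun a a' b => ?_) (fun a b b' => ?_) fun μ a b hμ => ?_).imp
    fun κ hκ x hx y hy => by rw [← key x hx y hy]; exact hκ _ _
  · rw [← b1 _ (hs a) _ (hs a') _ (hs' b)]
    exact k1 _ (hs _) _ (mul_mem (hs a) (hs a')) (by rw [fa _ (hs a) _ (hs a'), es, es, es]) _ (hs' b)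
  · rw [← b2 _ (hs a) _ (hs' b) _ (hs' b')]
    exact k2 _ (hs _) _ (hs' _) _ (mul_mem (hs' b) (hs' b')) (by rw [fa' _ (hs' b) _ (hs' b'), es', es', es'])
  · obtain ⟨h, hh, rfl⟩ := S.χ_surj μ hμ
    rw [← be h hh _ (hs a) _ (hs' b), ← key _ (cjm (hA hh) (hs a)) _ (cjm (hA' hh) (hs' b)), fe h hh _ (hs a),
      fe' h hh _ (hs' b), es, es']

/-- The maximal inverted group `Ys`, of exponent `2 ^ (m + 1)`. -/
structure YsD (P Y : Subgroup G) (ph : G → F) (Ys : Subgroup G) (m : ℕ) : Prop where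
  hP : S.ChH P
  hY : S.YD Y ph 1
  Y_le : Y ≤ Ys
  le_P : Ys ≤ P
  normH : S.H ≤ 𝒩(Ys)
  inv : ∀ y ∈ Ys, S.t * y * S.t⁻¹ = y⁻¹
  max : ∀ W : Subgroup G, Ys ≤ W → W ≤ P → S.H ≤ 𝒩(W) → (∀ y ∈ W, S.t * y * S.t⁻¹ = y⁻¹) → W ≤ Ys
  one_le : 1 ≤ m
  exp : ∀ y ∈ Ys, y ^ 2 ^ (m + 1) = 1
  top : ∃ y ∈ Ys, y ^ 2 ^ m ≠ 1

theorem exists_YsD [Finite G] {P Y : Subgroup G} {ph : G → F} (hP : S.ChH P) (hY : S.YD Y ph 1) (hle : Y ≤ P) :
    ∃ Ys m, YsD S P Y ph Ys m := by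
  classical
  obtain ⟨Ys, h1, h2⟩ := Finite.exists_le_maximal (p := fun W : Subgroup G => W ≤ P ∧ S.H ≤ 𝒩(W) ∧
    ∀ y ∈ W, S.t * y * S.t⁻¹ = y⁻¹) (a := Y) ⟨hle, hY.normH, fun y hy => by
      have := hY.sq y hy
      rw [one_mul] at this
      rw [hY.tY y hy, eq_inv_iff_mul_eq_one, ← S.z_sq (ph y), ← this]
      group⟩
  have hex : ∃ k, ∀ y ∈ Ys, y ^ 2 ^ k = 1 := by
    obtain ⟨k, hk⟩ := IsPGroup.iff_card.1 (hP.isP.to_le h2.1.1)
    exact ⟨k, fun y hy => orderOf_dvd_iff_pow_eq_one.1 (hk ▸ Ys.orderOf_dvd_natCard hy)⟩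
  obtain ⟨y, hy, e⟩ := hY.surj 1
  have hy2 : y * y ≠ 1 := by rw [hY.sq y hy, e, Ne, S.z_eq_one]; simp
  have h3 : 2 ≤ Nat.find hex := by
    by_contra hlt
    have h4 := Nat.find_spec hex y (h1 hy)
    rcases (by omega : Nat.find hex = 0 ∨ Nat.find hex = 1) with h | h <;> rw [h] at h4
    · exact hy2 (by rw [pow_zero, pow_one] at h4; rw [h4, one_mul])
    · exact hy2 (by rwa [pow_one, pow_two] at h4)
  obtain ⟨m, hm⟩ : ∃ m, Nat.find hex = m + 1 := ⟨Nat.find hex - 1, by omega⟩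
  refine ⟨Ys, m, hP, hY, h1, h2.1.1, h2.1.2.1, h2.1.2.2, fun W a b c d => h2.2 ⟨b, c, d⟩ a, by omega,
    hm ▸ Nat.find_spec hex, ?_⟩
  have := Nat.find_min hex (m := m) (by omega)
  push Not at this
  exact this

/-- `Ys ⟨t⟩` -/
def TT (Ys : Subgroup G) : Subgroup G := Ys ⊔ zpowers S.t

/-- `η g = [t, g]` -/
def eta (g : G) : G := S.t * g * S.t⁻¹ * g⁻¹

/-- the top coordinate -/
noncomputable def fm (i : ℕ) (w : G) : F := lg S (w ^ 2 ^ i)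

variable {S}

theorem pow_two_succ (x : G) (i : ℕ) : x ^ 2 ^ (i + 1) = x ^ 2 ^ i * x ^ 2 ^ i := by rw [pow_succ, pow_mul, pow_two]

theorem sq_pow (x : G) (i : ℕ) : (x * x) ^ 2 ^ i = x ^ 2 ^ (i + 1) := by rw [pow_succ', pow_mul, pow_two]

theorem eta_mul (g h : G) : eta S (g * h) = eta S g * (g * eta S h * g⁻¹) := by unfold eta; group

theorem eta_conj {h : G} (hh : h ∈ S.H) (g : G) : eta S (h * g * h⁻¹) = h * eta S g * h⁻¹ := by
  have h1 : S.t = h * S.t * h⁻¹ := by rw [S.H_t h hh, mul_inv_cancel_right]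
  unfold eta
  nth_rw 1 [h1]; nth_rw 2 [h1]
  group

namespace YsD

variable {P Y Ys : Subgroup G} {ph : G → F} {m : ℕ} (D : YsD S P Y ph Ys m)
include D

theorem comm {x y : G} (hx : x ∈ Ys) (hy : y ∈ Ys) : x * y = y * x := by
  have h1 := D.inv _ (mul_mem hx hy)
  rw [← conj_mul, D.inv x hx, D.inv y hy, ← mul_inv_rev] at h1
  exact (inv_injective h1).symm

theorem Z_le : S.Z ≤ Ys := D.hY.Z_le.trans D.Y_le

theorem cz {g x : G} (hg : g ∈ P) (hx : x ∈ S.Z) : g * x * g⁻¹ = x := by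
  rw [← mem_centralizer_iff.1 (D.hP.cent hg) x hx, mul_inv_cancel_right]

theorem t_not : S.t ∉ Ys := fun h => by
  obtain ⟨y, hy, e⟩ := D.hY.surj 1
  have := D.hY.tY y hy
  rw [D.comm h (D.Y_le hy), mul_inv_cancel_right, left_eq_mul, S.z_eq_one, e] at this
  exact one_ne_zero this

theorem ct {K : Subgroup G} (hK : K ≤ P) (hZ : S.Z ≤ K) (ht : S.t ∉ K) {x : G} (hx : x ∈ K) (h : S.t * x = x * S.t) :
    x ∈ S.Z := by
  obtain ⟨b, rfl | rfl⟩ := D.hP.ct ⟨hK hx, mem_centralizer_singleton_iff.2 h.symm⟩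
  · exact S.z_mem b
  · exact absurd ((K.mul_mem_cancel_right (hZ (S.z_mem b))).1 hx) ht

theorem omega1 {y : G} (hy : y ∈ Ys) (h : y * y = 1) : y ∈ S.Z :=
  D.ct D.le_P D.Z_le D.t_not hy (by rw [← mul_inv_eq_iff_eq_mul, D.inv y hy, ← eq_inv_of_mul_eq_one_left h])

theorem mul_pow {x y : G} (hx : x ∈ Ys) (hy : y ∈ Ys) (n : ℕ) : (x * y) ^ n = x ^ n * y ^ n :=
  Commute.mul_pow (D.comm hx hy) n

theorem omega2 {y : G} (hy : y ∈ Ys) (h : y * y ∈ S.Z) : y ∈ Y := by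
  obtain ⟨b, hb⟩ := h
  obtain ⟨w, hw, rfl⟩ := D.hY.surj b
  have h1 := D.hY.sq w hw
  rw [one_mul, hb] at h1
  have h2 := mul_mem hy (inv_mem (D.Y_le hw))
  refine (Y.mul_mem_cancel_right (inv_mem hw)).1 (D.hY.Z_le (D.omega1 h2 ?_))
  rw [← pow_two, D.mul_pow hy (inv_mem (D.Y_le hw)), inv_pow, pow_two, pow_two, h1, mul_inv_cancel]

theorem pow_mem_Z {y : G} (hy : y ∈ Ys) {i : ℕ} (h : y ^ 2 ^ (i + 1) = 1) : y ^ 2 ^ i ∈ S.Z :=
  D.omega1 (pow_mem hy _) (by rw [← pow_two_succ, h])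

theorem z_fm {y : G} (hy : y ∈ Ys) : S.z (fm S m y) = y ^ 2 ^ m := z_lg S (D.pow_mem_Z hy (D.exp y hy))

theorem fm_add (x : G) (hx : x ∈ Ys) (y : G) (hy : y ∈ Ys) : fm S m (x * y) = fm S m x + fm S m y :=
  S.z_inj (by rw [S.z_add, D.z_fm hx, D.z_fm hy, D.z_fm (mul_mem hx hy), D.mul_pow hx hy])

theorem fm_equiv (h : G) (hh : h ∈ S.H) (y : G) (hy : y ∈ Ys) : fm S m (h * y * h⁻¹) = S.χ h * fm S m y :=
  S.z_inj (by rw [← S.H_z h hh, D.z_fm hy, D.z_fm (cjm (D.normH hh) hy), conj_pow])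

theorem fm_eq_zero {y : G} (hy : y ∈ Ys) : fm S m y = 0 ↔ y ^ 2 ^ m = 1 := by rw [← S.z_eq_one, D.z_fm hy]

theorem fm_surj (b : F) : ∃ y ∈ Ys, fm S m y = b := by
  obtain ⟨y, hy, h⟩ := D.top
  exact surj_of S D.normH ((D.fm_eq_zero (one_mem _)).2 (one_pow _)) D.fm_equiv hy (mt (D.fm_eq_zero hy).1 h) b

theorem root {j : ℕ} : ∀ {i : ℕ}, i + j = m + 1 → ∀ w ∈ Ys, w ^ 2 ^ j = 1 → ∃ y ∈ Ys, w = y ^ 2 ^ i := by
  induction j with
  | zero => exact fun _ w _ h => ⟨1, one_mem _, by simpa using h⟩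
  | succ j ih =>
    intro i hi w hw h
    obtain ⟨y, hy, e⟩ := D.fm_surj (lg S (w ^ 2 ^ j))
    have h1 : y ^ 2 ^ m = w ^ 2 ^ j := by rw [← D.z_fm hy, e, z_lg S (D.pow_mem_Z hw h)]
    have h2 := inv_mem (pow_mem hy (2 ^ i))
    obtain ⟨u, hu, e2⟩ := ih (i := i + 1) (by omega) _ (mul_mem hw h2) (by
      rw [D.mul_pow hw h2, inv_pow, ← pow_mul, ← pow_add, show i + j = m by omega, h1, mul_inv_cancel])
    exact ⟨u * u * y, mul_mem (mul_mem hu hu) hy, by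
      rw [D.mul_pow (mul_mem hu hu) hy, sq_pow, ← e2, inv_mul_cancel_right]⟩

theorem sq_iff {y : G} (hy : y ∈ Ys) : fm S m y = 0 ↔ ∃ w ∈ Ys, y = w * w := by
  rw [D.fm_eq_zero hy]
  refine ⟨fun h => ?_, ?_⟩
  · obtain ⟨w, hw, e⟩ := D.root (i := 1) (add_comm _ _) y hy h
    exact ⟨w, hw, by rw [e, pow_one, pow_two]⟩
  · rintro ⟨w, hw, rfl⟩
    rw [sq_pow, D.exp w hw]

theorem lay {g y : G} (hg : g ∈ 𝒩(Ys)) (hc : g ∈ 𝒞(S.Z)) (hy : y ∈ Ys) {i : ℕ} (h : y ^ 2 ^ (i + 1) = 1) :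
    ⁅g, y⁆ ^ 2 ^ i = 1 := by
  rw [commutatorElement_def, D.mul_pow (cjm hg hy) (inv_mem hy), conj_pow, inv_pow,
    ← mem_centralizer_iff.1 hc _ (D.pow_mem_Z hy h), mul_inv_cancel_right, mul_inv_cancel]

theorem layer (g : G) (hg : g ∈ 𝒩(Ys) ⊓ 𝒞(S.Z)) (y : G) (hy : y ∈ Ys) : ∃ w ∈ Ys, g * y * g⁻¹ = y * (w * w) := by
  have h1 : ⁅g, y⁆ ∈ Ys := mul_mem (cjm hg.1 hy) (inv_mem hy)
  obtain ⟨w, hw, e⟩ := (D.sq_iff h1).1 ((D.fm_eq_zero h1).2 (D.lay hg.1 hg.2 hy (D.exp y hy)))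
  exact ⟨w, hw, by rw [← e, D.comm hy h1, commutatorElement_def, inv_mul_cancel_right]⟩

theorem t_norm [Finite G] : S.t ∈ 𝒩(Ys) := mem_normalizer_fintype fun y hy => D.inv y hy ▸ inv_mem hy

theorem tsq {x : G} (h : S.t * x ∈ Ys) : x * x = 1 := by
  have := D.inv _ h
  rw [mul_inv_rev, ← mul_assoc, S.t_sq, one_mul, mul_left_inj] at this
  nth_rw 1 [this]
  exact inv_mul_cancel _

variable [Finite G]

theorem mem_TT {x : G} : x ∈ TT S Ys ↔ x ∈ Ys ∨ S.t * x ∈ Ys := by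
  let T : Subgroup G :=
    { carrier := {x | x ∈ Ys ∨ S.t * x ∈ Ys}
      mul_mem' := by
        rintro a b (ha | ha) (hb | hb)
        · exact Or.inl (mul_mem ha hb)
        · exact Or.inr (by convert mul_mem (cjm D.t_norm ha) hb using 1; group)
        · exact Or.inr (by rw [← mul_assoc]; exact mul_mem ha hb)
        · refine Or.inl ?_
          convert mul_mem (cjm (inv_mem D.t_norm) ha) hb using 1
          rw [inv_inv, inv_mul_cancel_left, mul_assoc, ← mul_assoc S.t, S.t_sq, one_mul]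
      one_mem' := Or.inl (one_mem _)
      inv_mem' := by
        rintro a (ha | ha)
        · exact Or.inl (inv_mem ha)
        · exact Or.inr (by rwa [← eq_inv_of_mul_eq_one_left (D.tsq ha)]) }
  refine ⟨fun h => (sup_le (fun y hy => Or.inl hy) (zpowers_le.2 (Or.inr (by rw [S.t_sq]; exact one_mem _))) :
    TT S Ys ≤ T) h, fun h => h.elim (fun h => mem_sup_left h) fun h => ?_⟩
  exact ((TT S Ys).mul_mem_cancel_left (mem_sup_right (mem_zpowers _))).1 (mem_sup_left h)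

omit [Finite G] in
theorem TT_le : TT S Ys ≤ P := sup_le D.le_P (zpowers_le.2 (D.hP.F0_le S.t_mem_F0))

omit [Finite G] in
theorem F0_le : S.F0 ≤ TT S Ys := by
  rintro _ ⟨b, rfl | rfl⟩
  · exact mem_sup_left (D.Z_le (S.z_mem b))
  · exact mul_mem (mem_sup_right (mem_zpowers _)) (mem_sup_left (D.Z_le (S.z_mem b)))

theorem norm {g : G} (hg : g ∈ P ⊓ 𝒩(TT S Ys)) : g ∈ 𝒩(Ys) := by
  refine mem_normalizer_fintype fun y hy => ?_
  by_cases h : y * y = 1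
  · rwa [D.cz hg.1 (D.omega1 hy h)]
  · refine (D.mem_TT.1 (cjm hg.2 (mem_sup_left hy))).resolve_right fun h1 => h ?_
    have := D.tsq h1
    rwa [conj_mul, conj_eq_one_iff] at this

theorem eta_mem {g : G} (hg : g ∈ P ⊓ 𝒩(TT S Ys)) : eta S g ∈ Ys := by
  have h1 := (D.mem_TT.1 (cjm hg.2 (mem_sup_right (mem_zpowers S.t)))).resolve_left fun h =>
    D.t_not ((mem_normalizer_iff.1 (D.norm hg) _).2 h)
  rwa [eta, S.t_inv, mul_assoc, mul_assoc, ← mul_assoc g]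

theorem normN : S.H ≤ 𝒩(P ⊓ 𝒩(TT S Ys)) := fun h hh => by
  have h1 : h ∈ 𝒩(TT S Ys) := mem_normalizer_fintype fun x hx => D.mem_TT.2 ((D.mem_TT.1 hx).imp (cjm (D.normH hh))
    fun h2 => by convert cjm (D.normH hh) h2 using 1; rw [← mul_assoc, ← mul_assoc, ← mul_assoc, S.H_t h hh])
  exact mem_normalizer_fintype fun x hx => ⟨cjm (D.hP.normH hh) hx.1, cjm (K := 𝒩(TT S Ys)) (le_normalizer h1) hx.2⟩

omit [Finite G] in
theorem eta_Ys {y : G} (hy : y ∈ Ys) : eta S y = y⁻¹ * y⁻¹ := by rw [eta, D.inv y hy]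

theorem psi_add (x : G) (hx : x ∈ P ⊓ 𝒩(TT S Ys)) (y : G) (hy : y ∈ P ⊓ 𝒩(TT S Ys)) :
    fm S m (eta S (x * y)) = fm S m (eta S x) + fm S m (eta S y) := by
  rw [eta_mul, D.fm_add _ (D.eta_mem hx) _ (cjm (D.norm hx) (D.eta_mem hy))]
  congr 1
  rw [fm, fm, conj_pow, D.cz hx.1 (D.pow_mem_Z (D.eta_mem hy) (D.exp _ (D.eta_mem hy)))]

theorem psi_equiv (h : G) (hh : h ∈ S.H) (x : G) (hx : x ∈ P ⊓ 𝒩(TT S Ys)) :
    fm S m (eta S (h * x * h⁻¹)) = S.χ h * fm S m (eta S x) := by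
  rw [eta_conj hh, D.fm_equiv h hh _ (D.eta_mem hx)]

omit [Finite G] in
theorem TT_le_N : TT S Ys ≤ P ⊓ 𝒩(TT S Ys) := le_inf D.TT_le le_normalizer

theorem psi_ker {x : G} (hx : x ∈ P ⊓ 𝒩(TT S Ys)) : fm S m (eta S x) = 0 ↔ x ∈ TT S Ys := by
  have k : ∀ y ∈ Ys, fm S m (eta S y) = 0 := fun y hy => by
    rw [D.eta_Ys hy]
    exact (D.sq_iff (mul_mem (inv_mem hy) (inv_mem hy))).2 ⟨_, inv_mem hy, rfl⟩
  refine ⟨fun h => ?_, fun h => (D.mem_TT.1 h).elim (k x) fun h => ?_⟩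
  · obtain ⟨w, hw, e⟩ := (D.sq_iff (D.eta_mem hx)).1 h
    have h1 : eta S (w * x) = 1 := by rw [eta_mul, D.eta_Ys hw, e]; group
    refine ((TT S Ys).mul_mem_cancel_left (mem_sup_left hw)).1 (D.F0_le (D.hP.ct ⟨mul_mem (D.le_P hw) hx.1,
      mem_centralizer_singleton_iff.2 ?_⟩))
    rw [eta, mul_inv_eq_one, mul_inv_eq_iff_eq_mul] at h1
    exact h1.symm
  · have h1 := D.psi_add _ (D.TT_le_N (mem_sup_right (mem_zpowers _))) x hx
    have h2 : fm S m (eta S S.t) = 0 := by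
      rw [show eta S S.t = 1 by unfold eta; group]
      exact (D.fm_eq_zero (one_mem _)).2 (one_pow _)
    rwa [k _ h, h2, zero_add, eq_comm] at h1

theorem sq_mem {g : G} (hg : g ∈ P ⊓ 𝒩(TT S Ys)) : g * g ∈ Ys := by
  by_cases h : g ∈ TT S Ys
  · exact (D.mem_TT.1 h).elim (fun h => mul_mem h h) fun h => D.tsq h ▸ one_mem _
  refine (D.mem_TT.1 ((D.psi_ker (mul_mem hg hg)).1 (by rw [D.psi_add g hg g hg, S.add_self]))).resolve_right
    fun h1 => h ((D.psi_ker hg).1 ((D.fm_eq_zero (D.eta_mem hg)).2 ?_))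
  have h2 : eta S g = ⁅g, S.t * (g * g)⁆⁻¹ := by
    rw [eta]; group
  rw [h2, inv_pow, D.lay (D.norm hg) (D.hP.cent hg.1) h1 (D.exp _ h1), inv_one]

omit D [Finite G] in
theorem comm_of_sq {N : Subgroup G} (hN : N ≤ 𝒩(Ys)) (h : ∀ x ∈ N, x * x ∈ Ys) {x y : G} (hx : x ∈ N) (hy : y ∈ N) :
    ⁅x, y⁆ ∈ Ys := by
  convert mul_mem (mul_mem (h _ (mul_mem hx hy)) (cjm (hN (inv_mem hy)) (h _ (inv_mem hx)))) (h _ (inv_mem hy)) using 1
  rw [commutatorElement_def]; group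

theorem comm_mem {x y : G} (hx : x ∈ P ⊓ 𝒩(TT S Ys)) (hy : y ∈ P ⊓ 𝒩(TT S Ys)) : ⁅x, y⁆ ∈ Ys :=
  comm_of_sq (fun _ => D.norm) (fun _ => D.sq_mem) hx hy

end YsD

variable (S) in
/-- The cap. -/
structure XD (P Ys : Subgroup G) (m : ℕ) (X0 : Subgroup G) : Prop where
  Ys_le : Ys ≤ X0
  le_N : X0 ≤ P ⊓ 𝒩(TT S Ys)
  normH : S.H ≤ 𝒩(X0)
  ker : ∀ x ∈ X0, fm S m (eta S x) = 0 → x ∈ Ys
  surj : ∀ b, ∃ x ∈ X0, fm S m (eta S x) = b
  mem : ∀ x ∈ P ⊓ 𝒩(TT S Ys), x ∈ X0 ∨ S.t * x ∈ X0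

theorem YsD.exists_XD [Finite G] [Finite F] {P Y Ys : Subgroup G} {ph : G → F} {m : ℕ} (D : YsD S P Y ph Ys m)
    (hn : ¬ P ⊓ 𝒩(TT S Ys) ≤ TT S Ys) : ∃ X0, XD S P Ys m X0 := by
  obtain ⟨μ, h0, h1⟩ := exists_ne S 1
  obtain ⟨k, hk, rfl⟩ := S.χ_surj μ h0
  have hμ : S.χ k + 1 ≠ 0 := fun e => h1 (by linear_combination e - S.two)
  set N := P ⊓ 𝒩(TT S Ys) with hN
  have one : fm S m (eta S 1) = 0 := (D.psi_ker (one_mem _)).2 (one_mem _)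
  have inv : ∀ x ∈ N, fm S m (eta S x⁻¹) = fm S m (eta S x) := fun x hx => by
    have := D.psi_add x hx _ (inv_mem hx)
    rw [mul_inv_cancel, one] at this
    linear_combination -this - fm S m (eta S x) * S.two
  have dm : ∀ g ∈ N, k * g * k⁻¹ * g⁻¹ ∈ N := fun g hg => mul_mem (cjm (D.normN hk) hg) (inv_mem hg)
  have dp : ∀ g ∈ N, fm S m (eta S (k * g * k⁻¹ * g⁻¹)) = (S.χ k + 1) * fm S m (eta S g) := fun g hg => by
    rw [D.psi_add _ (cjm (D.normN hk) hg) _ (inv_mem hg), D.psi_equiv k hk g hg, inv g hg]; ring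
  obtain ⟨g₀, hg₀, hg₀'⟩ := SetLike.not_le_iff_exists.1 hn
  have sj := surj_of S D.normN (f := fun x => fm S m (eta S x)) one D.psi_equiv hg₀ (mt (D.psi_ker hg₀).1 hg₀')
  have YN : Ys ≤ N := le_sup_left.trans D.TT_le_N
  let X0 : Subgroup G :=
    { carrier := {x | x ∈ N ∧ ∃ g ∈ N, x * (k * g * k⁻¹ * g⁻¹)⁻¹ ∈ Ys}
      mul_mem' := by
        rintro x x' ⟨hx, g, hg, h⟩ ⟨hx', g', hg', h'⟩
        refine ⟨mul_mem hx hx', g * g', mul_mem hg hg', ?_⟩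
        convert mul_mem (mul_mem h (cjm (D.norm (dm g hg)) h'))
          (cjm (D.norm (dm g hg)) (D.comm_mem (dm g' hg') hg)) using 1
        rw [commutatorElement_def]; group
      one_mem' := ⟨one_mem _, 1, one_mem _, by simp⟩
      inv_mem' := by
        rintro x ⟨hx, g, hg, h⟩
        refine ⟨inv_mem hx, g, hg, ?_⟩
        convert mul_mem (inv_mem (D.sq_mem hx)) h using 1
        group }
  have dX : ∀ g ∈ N, k * g * k⁻¹ * g⁻¹ ∈ X0 := fun g hg => ⟨dm g hg, g, hg, by simp⟩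
  have YX : Ys ≤ X0 := fun y hy => ⟨YN hy, 1, one_mem _, by simpa using hy⟩
  refine ⟨X0, YX, fun x hx => hx.1, fun h hh => mem_normalizer_fintype ?_, ?_, fun b => ?_, fun x hx => ?_⟩
  · rintro x ⟨hx, g, hg, e⟩
    refine ⟨cjm (D.normN hh) hx, _, cjm (D.normN hh) hg, ?_⟩
    convert cjm (D.normH hh) e using 1
    have h2 : k = h * k * h⁻¹ := by rw [H_comm S hh hk, mul_inv_cancel_right]
    nth_rw 1 [h2]; nth_rw 2 [h2]
    group
  · rintro x ⟨hx, g, hg, e⟩ h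
    have h2 := D.psi_add _ hx _ (inv_mem (dm g hg))
    rw [(D.psi_ker (YN e)).2 (mem_sup_left e), h, inv _ (dm g hg), dp g hg, zero_add, eq_comm, mul_eq_zero,
      D.psi_ker hg, D.mem_TT] at h2
    refine (Ys.mul_mem_cancel_right (inv_mem ?_)).1 e
    rcases h2.resolve_left hμ with h3 | h3
    · exact mul_mem (cjm (D.normH hk) h3) (inv_mem h3)
    · convert cjm (inv_mem D.t_norm) (mul_mem (cjm (D.normH hk) h3) (inv_mem h3)) using 1
      rw [← mul_assoc k, S.H_t k hk]; group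
  · obtain ⟨g, hg, e⟩ := sj (b / (S.χ k + 1))
    exact ⟨_, dX g hg, by rw [dp g hg, e, mul_div_cancel₀ _ hμ]⟩
  · obtain ⟨g, hg, e⟩ := sj (fm S m (eta S x) / (S.χ k + 1))
    have h2 := mul_mem hx (inv_mem (dm g hg))
    have h3 := D.mem_TT.1 ((D.psi_ker h2).1 (by
      rw [D.psi_add _ hx _ (inv_mem (dm g hg)), inv _ (dm g hg), dp g hg, e, mul_div_cancel₀ _ hμ, S.add_self]))
    exact h3.imp (fun h => ⟨hx, g, hg, h⟩) fun h =>
      ⟨mul_mem (D.TT_le_N (mem_sup_right (mem_zpowers _))) hx, g, hg, by rwa [mul_assoc]⟩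

end CL.Std2.ChB
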