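/-
Project STD2, chain lemma (T2), part 2: properties of the cap and the theorem.
-/
import Cfsg.Agent.Std2.ChainB1

set_option autoImplicit false
open Cfsg Subgroup CL.Even CL.Grp
open scoped commutatorElement

namespace CL.Std2

universe u v

namespace ChB

variable {G : Type u} [Group G] [Finite G] {F : Type v} [Field F] [Finite F] {S : Sc G F}
  {P Y Ys X0 : Subgroup G} {ph : G → F} {m : ℕ}

omit [Finite G] in
theorem cm_left (x x' y : G) : ⁅x * x', y⁆ = x * ⁅x', y⁆ * x⁻¹ * ⁅x, y⁆ := by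
  simp only [commutatorElement_def]; group

omit [Finite G] in
theorem cm_right (x y y' : G) : ⁅x, y * y'⁆ = ⁅x, y⁆ * (y * ⁅x, y'⁆ * y⁻¹) := by
  simp only [commutatorElement_def]; group

omit [Finite G] in
theorem cm_one {x y : G} : ⁅x, y⁆ = 1 ↔ x * y = y * x := commutatorElement_eq_one_iff_mul_comm

section

variable (hW : WL2.{v}) (D : YsD S P Y ph Ys m) (X : XD S P Ys m X0)

section
include D X

omit [Finite F]

theorem nY {x : G} (hx : x ∈ X0) : x ∈ 𝒩(Ys) := D.norm (X.le_N hx)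

theorem cmm {x y : G} (hx : x ∈ X0) (hy : y ∈ X0) : ⁅x, y⁆ ∈ Ys := D.comm_mem (X.le_N hx) (X.le_N hy)

theorem pa (x : G) (hx : x ∈ X0) (y : G) (hy : y ∈ X0) :
    fm S m (eta S (x * y)) = fm S m (eta S x) + fm S m (eta S y) := D.psi_add x (X.le_N hx) y (X.le_N hy)

theorem pk (x : G) (hx : x ∈ X0) : fm S m (eta S x) = 0 ↔ x ∈ Ys :=
  ⟨X.ker x hx, fun h => (D.psi_ker (X.le_N hx)).2 (mem_sup_left h)⟩

theorem t_not : S.t ∉ X0 := fun h =>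
  D.t_not (X.ker _ h ((D.psi_ker (X.le_N h)).2 (mem_sup_right (mem_zpowers _))))

theorem cjX {g x : G} (hg : g ∈ P ⊓ 𝒩(TT S Ys)) (hx : x ∈ X0) : g * x * g⁻¹ ∈ X0 := by
  convert mul_mem (X.Ys_le (D.comm_mem hg (X.le_N hx))) hx using 1
  rw [commutatorElement_def, inv_mul_cancel_right]

theorem tX {x : G} (hx : x ∈ X0) : S.t * x * S.t⁻¹ ∈ X0 := cjX D X (D.TT_le_N (mem_sup_right (mem_zpowers _))) hx

theorem cm_pow {x y : G} (hx : x ∈ X0) (hy : y ∈ Ys) (n : ℕ) : ⁅x, y ^ n⁆ = ⁅x, y⁆ ^ n := by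
  rw [commutatorElement_def, commutatorElement_def, D.mul_pow (cjm (nY D X hx) hy) (inv_mem hy), conj_pow, inv_pow]

theorem not_sq {x : G} (hx : x ∈ X0) (h : x ∉ Ys) (w : G) (hw : w ∈ Ys) : eta S x ≠ w * w := fun e =>
  h (X.ker x hx ((D.sq_iff (D.eta_mem (X.le_N hx))).2 ⟨w, hw, e⟩))

theorem split {x x' : G} (hx : x ∈ X0) (hx' : x' ∈ X0) (h : fm S m (eta S x) = fm S m (eta S x')) :
    ∃ y ∈ Ys, x = y * x' := by
  have hu := mul_mem hx (inv_mem hx')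
  have := pa D X _ hu _ hx'
  rw [inv_mul_cancel_right] at this
  exact ⟨_, X.ker _ hu (by linear_combination h - this), by group⟩

theorem conj (y : G) (hy : y ∈ Ys) : ∃ r ∈ X0, r * S.t * r⁻¹ = S.t * y := by
  obtain ⟨x, hx, e⟩ := X.surj (fm S m y)
  have h1 := D.eta_mem (X.le_N hx)
  have h2 := D.fm_add _ (mul_mem h1 (inv_mem hy)) _ hy
  rw [inv_mul_cancel_right] at h2
  obtain ⟨w, hw, e2⟩ := (D.sq_iff (mul_mem h1 (inv_mem hy))).1 (by linear_combination e - h2)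
  have h3 : eta S (w * x) = y := by
    rw [eta_mul, D.eta_Ys hw, D.comm hw h1, mul_inv_cancel_right, eq_mul_of_mul_inv_eq e2]; group
  refine ⟨w * x, mul_mem (X.Ys_le hw) hx, ?_⟩
  rw [← h3, eta, ← mul_assoc, ← mul_assoc, ← mul_assoc, S.t_sq, one_mul, S.t_inv]

theorem abel' (hc : ∀ x ∈ X0, ∀ y ∈ X0, x * y = y * x) (x : G) (hx : x ∈ X0) (h : x * x = 1) : x ∈ S.Z := by
  have h1 : eta S x * eta S x = 1 := by
    rw [← pow_two, eta, Commute.mul_pow (hc _ (tX D X hx) _ (inv_mem hx)), conj_pow, inv_pow, pow_two, h]; group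
  obtain ⟨k, rfl⟩ : ∃ k, m = k + 1 := ⟨m - 1, by have := D.one_le; omega⟩
  exact D.omega1 (X.ker x hx ((D.fm_eq_zero (D.eta_mem (X.le_N hx))).2 (by rw [← sq_pow, h1, one_pow]))) h

theorem sq_onto (hc : ∀ x ∈ X0, ∀ y ∈ X0, x * y = y * x) {x₀ : G} (h₀ : x₀ ∈ X0) (hn : x₀ ∉ Ys) (y : G) (hy : y ∈ Ys) :
    ∃ x ∈ X0, x * x = y := by
  have sm : ∀ x ∈ X0, x * x ∈ Ys := fun x hx => D.sq_mem (X.le_N hx)
  have ms : ∀ x ∈ X0, ∀ y ∈ X0, x * y * (x * y) = x * x * (y * y) := fun x hx y hy => by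
    rw [← pow_two, Commute.mul_pow (hc x hx y hy), pow_two, pow_two]
  obtain ⟨x, hx, e⟩ := surj_of S X.normH (f := fun x => fm S m (x * x))
    ((D.fm_eq_zero (sm 1 (one_mem _))).2 (by simp)) (fun h hh x hx => by
      rw [conj_mul]; exact D.fm_equiv h hh _ (sm x hx)) h₀ (fun e => by
      obtain ⟨w, hw, e2⟩ := (D.sq_iff (sm _ h₀)).1 e
      have h1 := inv_mem (X.Ys_le hw)
      exact hn ((Ys.mul_mem_cancel_right (inv_mem hw)).1 (D.Z_le (abel' D X hc _ (mul_mem h₀ h1) (by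
        rw [ms _ h₀ _ h1, e2]; group))))) (fm S m y)
  have h2 := D.fm_add _ (mul_mem hy (inv_mem (sm x hx))) _ (sm x hx)
  rw [inv_mul_cancel_right] at h2
  obtain ⟨w, hw, e2⟩ := (D.sq_iff (mul_mem hy (inv_mem (sm x hx)))).1 (by linear_combination -e - h2)
  exact ⟨w * x, mul_mem (X.Ys_le hw) hx, by rw [ms _ (X.Ys_le hw) _ hx, ← e2, inv_mul_cancel_right]⟩

end

include hW D X

theorem wlB (i : ℕ) {A : Subgroup G} (hA : A ≤ X0) (hn : S.H ≤ 𝒩(A)) {f : G → F}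
    (fa : ∀ x ∈ A, ∀ y ∈ A, f (x * y) = f x + f y) (fs : ∀ b, ∃ x ∈ A, f x = b)
    (fe : ∀ h ∈ S.H, ∀ x ∈ A, f (h * x * h⁻¹) = S.χ h * f x)
    (hO : ∀ x ∈ X0, ∀ y ∈ A, ⁅x, y⁆ ^ 2 ^ (i + 1) = 1) (v1 : ∀ x ∈ Ys, ∀ y ∈ A, ⁅x, y⁆ ^ 2 ^ i = 1)
    (v2 : ∀ x ∈ X0, ∀ y ∈ A, f y = 0 → ⁅x, y⁆ ^ 2 ^ i = 1) :
    ∃ κ : F, ∀ x ∈ X0, ∀ y ∈ A, ∃ b, ⁅x, y⁆ ^ 2 ^ i = S.z b ∧ b ^ 2 = κ * (fm S m (eta S x) * f y) := by
  have hz : ∀ x ∈ X0, ∀ y ∈ A, ⁅x, y⁆ ^ 2 ^ i ∈ S.Z := fun x hx y hy => D.pow_mem_Z (cmm D X hx (hA hy)) (hO x hx y hy)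
  have zf : ∀ x ∈ X0, ∀ y ∈ A, S.z (fm S i ⁅x, y⁆) = ⁅x, y⁆ ^ 2 ^ i := fun x hx y hy => z_lg S (hz x hx y hy)
  refine (wl_apply S hW X.normH hn (pa D X) fa X.surj fs (fun h hh x hx => D.psi_equiv h hh x (X.le_N hx)) fe
    (B := fun x y => fm S i ⁅x, y⁆) (fun x hx x' hx' y hy => S.z_inj ?_) (fun x hx y hy y' hy' => S.z_inj ?_)
    (fun x hx y hy h => ?_) (fun x hx y hy h => ?_) fun h hh x hx y hy => S.z_inj ?_).imp
    fun κ hκ x hx y hy => ⟨_, (zf x hx y hy).symm, hκ x hx y hy⟩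
  · rw [add_comm, S.z_add, zf _ (mul_mem hx hx') y hy, zf x hx y hy, zf x' hx' y hy, cm_left,
      D.mul_pow (cjm (nY D X hx) (cmm D X hx' (hA hy))) (cmm D X hx (hA hy)), conj_pow,
      D.cz (X.le_N hx).1 (hz x' hx' y hy)]
  · rw [S.z_add, zf _ hx _ (mul_mem hy hy'), zf x hx y hy, zf x hx y' hy', cm_right,
      D.mul_pow (cmm D X hx (hA hy)) (cjm (nY D X (hA hy)) (cmm D X hx (hA hy'))), conj_pow,
      D.cz (X.le_N (hA hy)).1 (hz x hx y' hy')]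
  · rw [← S.z_eq_one, zf x hx y hy, v1 x (X.ker x hx h) y hy]
  · rw [← S.z_eq_one, zf x hx y hy, v2 x hx y hy h]
  · rw [← S.H_z h hh, zf x hx y hy, zf _ (cjm (X.normH hh) hx) _ (cjm (hn hh) hy), ← conj_pow,
      conjugate_commutatorElement]

theorem layerB (i : ℕ) (hO : ∀ x ∈ X0, ∀ y ∈ Ys, ⁅x, y⁆ ^ 2 ^ (i + 1) = 1) :
    ∃ κ : F, ∀ x ∈ X0, ∀ y ∈ Ys, ∃ b, ⁅x, y⁆ ^ 2 ^ i = S.z b ∧ b ^ 2 = κ * (fm S m (eta S x) * fm S m y) := by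
  refine wlB hW D X i X.Ys_le D.normH D.fm_add D.fm_surj D.fm_equiv hO
    (fun x hx y hy => by rw [cm_one.2 (D.comm hx hy), one_pow]) fun x hx y hy h => ?_
  obtain ⟨w, hw, rfl⟩ := (D.sq_iff hy).1 h
  rw [← pow_two, cm_pow D X hx hw, pow_two, sq_pow, hO x hx w hw]

theorem altB (i : ℕ) (h : ∀ x ∈ X0, ∀ y ∈ Ys, ⁅x, y⁆ ^ 2 ^ i = 1) : ∀ x ∈ X0, ∀ y ∈ X0, ⁅x, y⁆ ^ 2 ^ i = 1 := by
  have h' : ∀ x ∈ Ys, ∀ y ∈ X0, ⁅x, y⁆ ^ 2 ^ i = 1 := fun x hx y hy => by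
    rw [← commutatorElement_inv, inv_pow, h y hy x hx, inv_one]
  obtain ⟨κ, hκ⟩ := wlB hW D X i le_rfl X.normH (pa D X) X.surj (fun h hh x hx => D.psi_equiv h hh x (X.le_N hx))
    (fun x hx y hy => by
      have c := cmm D X hx hy
      have h1 := h' _ (D.sq_mem (X.le_N hx)) y hy
      rwa [cm_left, show x * ⁅x, y⁆ * x⁻¹ * ⁅x, y⁆ = ⁅x, ⁅x, y⁆⁆ * (⁅x, y⁆ * ⁅x, y⁆) by
        rw [commutatorElement_def x ⁅x, y⁆]; group, D.mul_pow (cmm D X hx (X.Ys_le c)) (mul_mem c c), h x hx _ c, one_mul,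
        sq_pow] at h1) h' fun x hx y hy e => h x hx y (X.ker y hy e)
  obtain ⟨x, hx, e⟩ := X.surj 1
  obtain ⟨b, h1, h2⟩ := hκ x hx x hx
  rw [commutatorElement_self, one_pow, eq_comm, S.z_eq_one] at h1
  have h0 : κ = 0 := by simpa [h1, e] using h2.symm
  intro x hx y hy
  obtain ⟨b, h1, h2⟩ := hκ x hx y hy
  rw [h0, zero_mul, pow_eq_zero_iff two_ne_zero] at h2
  rw [h1, h2, S.z_zero]

omit hW [Finite F] in
theorem descend {j : ℕ} (hj : j ≤ m) (step : ∀ i, j ≤ i → i + 1 ≤ m → (∀ x ∈ X0, ∀ y ∈ Ys, ⁅x, y⁆ ^ 2 ^ (i + 1) = 1) →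
    ∀ x ∈ X0, ∀ y ∈ Ys, ⁅x, y⁆ ^ 2 ^ i = 1) : ∀ x ∈ X0, ∀ y ∈ Ys, ⁅x, y⁆ ^ 2 ^ j = 1 :=
  Nat.decreasingInduction' (P := fun i => ∀ x ∈ X0, ∀ y ∈ Ys, ⁅x, y⁆ ^ 2 ^ i = 1) (fun i h1 h2 h => step i h2 h1 h) hj
    fun _ hx y hy => D.lay (nY D X hx) (D.hP.cent (X.le_N hx).1) hy (D.exp y hy)

theorem lemZ (h : ∃ x ∈ X0, x ∉ Ys ∧ ∃ y ∈ Ys, (∀ w ∈ Ys, y ≠ w * w) ∧ x * y = y * x) :
    ∀ x ∈ X0, ∀ y ∈ X0, x * y = y * x := by
  obtain ⟨x₀, hx₀, hn, y₀, hy₀, hs, hc⟩ := h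
  have n1 := mt (X.ker _ hx₀) hn
  have n2 : fm S m y₀ ≠ 0 := fun e => by
    obtain ⟨w, hw, e⟩ := (D.sq_iff hy₀).1 e
    exact hs w hw e
  have := altB hW D X 0 (descend D X (Nat.zero_le _) fun i _ _ hO => by
    obtain ⟨κ, hκ⟩ := layerB hW D X i hO
    obtain ⟨b, h1, h2⟩ := hκ _ hx₀ _ hy₀
    rw [cm_one.2 hc, one_pow, eq_comm, S.z_eq_one] at h1
    have h0 : κ = 0 := by simpa [h1, n1, n2] using h2.symm
    intro x hx y hy
    obtain ⟨b, h1, h2⟩ := hκ x hx y hy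
    rw [h0, zero_mul, pow_eq_zero_iff two_ne_zero] at h2
    rw [h1, h2, S.z_zero])
  exact fun x hx y hy => cm_one.1 (by simpa using this x hx y hy)

theorem eta_case {x : G} (hx : x ∈ X0) (hn : x ∉ Ys) (h : S.t * x * S.t⁻¹ * x ∈ S.Z) :
    ∀ x ∈ X0, ∀ y ∈ X0, x * y = y * x := by
  refine lemZ hW D X ⟨x, hx, hn, _, D.eta_mem (X.le_N hx), not_sq D X hx hn, ?_⟩
  have h1 := D.cz (X.le_N hx).1 h
  calc x * eta S x = x * (S.t * x * S.t⁻¹ * x) * x⁻¹ * x⁻¹ := by rw [eta]; group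
    _ = eta S x * x := by rw [h1, eta]; group

theorem inv (x : G) (hx : x ∈ X0) (h : S.t * x * (S.t * x) = 1) : x ∈ Ys := by
  by_contra hn
  have h1 : S.t * x * S.t⁻¹ * x = 1 := by rw [S.t_inv, mul_assoc, h]
  have hc := eta_case hW D X hx hn (h1 ▸ one_mem _)
  let W : Subgroup G :=
    { carrier := {x | x ∈ X0 ∧ S.t * x * S.t⁻¹ = x⁻¹}
      mul_mem' := fun {a b} ha hb => ⟨mul_mem ha.1 hb.1, by rw [← conj_mul, ha.2, hb.2, hc a ha.1 b hb.1, mul_inv_rev]⟩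
      one_mem' := ⟨one_mem _, by simp⟩
      inv_mem' := fun {a} ha => ⟨inv_mem ha.1, by rw [← conj_inv, ha.2]⟩ }
  refine hn (D.max W (fun y hy => ⟨X.Ys_le hy, D.inv y hy⟩) (fun y hy => (X.le_N hy.1).1)
    (fun k hk => mem_normalizer_fintype fun y hy => ⟨cjm (X.normH hk) hy.1, ?_⟩) (fun y hy => hy.2)
    ⟨hx, eq_inv_of_mul_eq_one_left h1⟩)
  calc S.t * (k * y * k⁻¹) * S.t⁻¹ = S.t * k * y * (S.t * k)⁻¹ := by group
    _ = k * (S.t * y * S.t⁻¹) * k⁻¹ := by rw [← S.H_t k hk]; group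
    _ = _ := by rw [hy.2]; group

theorem kappa : ∃ κ : F, ∀ x ∈ X0, ∀ y ∈ Y, ∃ b, ⁅x, y⁆ = S.z b ∧ b ^ 2 = κ * (fm S m (eta S x) * ph y) := by
  have sq : ∀ y ∈ Y, S.z (ph y) = y * y := fun y hy => by rw [D.hY.sq y hy, one_mul]
  have := wlB hW D X 0 (D.Y_le.trans X.Ys_le) D.hY.normH (f := ph) (fun x hx y hy => S.z_inj (by
      rw [S.z_add, sq x hx, sq y hy, sq _ (mul_mem hx hy), ← pow_two, D.mul_pow (D.Y_le hx) (D.Y_le hy), pow_two, pow_two]))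
    D.hY.surj (fun h hh y hy => S.z_inj (by rw [← S.H_z h hh, sq y hy, sq _ (cjm (D.hY.normH hh) hy), conj_mul]))
    (fun x hx y hy => D.lay (nY D X hx) (D.hP.cent (X.le_N hx).1) (D.Y_le hy) (by
      rw [← sq_pow, ← sq y hy, pow_one, pow_two, S.z_sq]))
    (fun x hx y hy => by rw [cm_one.2 (D.comm hx (D.Y_le hy)), one_pow]) fun x hx y hy h => by
      rw [commutatorElement_def, D.cz (X.le_N hx).1 (D.hY.ker y hy h), mul_inv_cancel, one_pow]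
  simpa using this

theorem spec {κ : F} (hκ : ∀ x ∈ X0, ∀ y ∈ Y, ∃ b, ⁅x, y⁆ = S.z b ∧ b ^ 2 = κ * (fm S m (eta S x) * ph y))
    (h : ∃ x ∈ X0, x * x = 1 ∧ x ∉ S.Z) :
    Ys = Y ∧ κ ≠ 0 ∧ (∀ x ∈ X0, x * x ∈ S.Z) ∧ ∀ x ∈ X0, ∀ y ∈ X0, ⁅x, y⁆ ∈ S.Z := by
  obtain ⟨r, hr, r2, rZ⟩ := h
  have rY : r ∉ Ys := fun h => rZ (D.omega1 h r2)
  have n1 := mt (X.ker _ hr) rY
  have h1 : ∀ x ∈ X0, ∀ y ∈ Ys, ⁅x, y⁆ ^ 2 ^ 1 = 1 := descend D X D.one_le fun i hi him hO => by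
    obtain ⟨κ, hκ⟩ := layerB hW D X i hO
    have h0 : κ = 0 := by
      by_contra h0
      have key : ∀ μ, μ ≠ 0 → μ = κ * fm S m (eta S r) := fun μ hμ => by
        obtain ⟨y, hy, rfl⟩ := D.fm_surj μ
        obtain ⟨b, e1, e2⟩ := hκ r hr y hy
        have hb : b ≠ 0 := fun e => by simp [e, h0, n1, hμ] at e2
        have c := cmm D X hr (X.Ys_le hy)
        obtain ⟨d, rfl⟩ : ∃ d, m = i + 1 + d := ⟨m - (i + 1), by omega⟩
        obtain ⟨i, rfl⟩ : ∃ j, i = j + 1 := ⟨i - 1, by omega⟩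
        obtain ⟨w, hw, ew⟩ := D.root (i := d + 1) (j := i + 1 + 1) (by omega) _ c (hO r hr y hy)
        have e3 : ⁅r, ⁅r, y⁆⁆ = (⁅r, y⁆ * ⁅r, y⁆)⁻¹ := by
          have := cm_left r r y
          rw [r2, commutatorElement_one_left] at this
          rw [eq_inv_iff_mul_eq_one, this, commutatorElement_def r ⁅r, y⁆]; group
        have e4 : ⁅r, w⁆ ^ 2 ^ (d + 1 + i) = S.z b := by
          rw [pow_add, pow_mul, ← cm_pow D X hr hw, ← ew, e3, inv_pow, sq_pow, e1, S.z_inv]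
        have e5 : fm S (i + 1 + 1 + d) w = b := S.z_inj (by
          rw [D.z_fm hw, ← e1, ew, ← pow_mul, ← pow_add, show d + 1 + (i + 1) = i + 1 + 1 + d by omega])
        rcases d with _ | d
        · obtain ⟨b', f1, f2⟩ := hκ r hr w hw
          rw [show 0 + 1 + i = i + 1 by omega, f1] at e4
          rw [S.z_inj e4, e5] at f2
          have g1 : b = κ * fm S (i + 1 + 1 + 0) (eta S r) := mul_right_cancel₀ hb (by linear_combination f2)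
          rw [← g1]
          exact mul_right_cancel₀ hb (by linear_combination -e2 - fm S (i + 1 + 1 + 0) y * -g1)
        · rw [show d + 1 + 1 + i = i + 1 + 1 + d by omega, pow_add, pow_mul, hO r hr w hw, one_pow, eq_comm,
            S.z_eq_one] at e4
          exact absurd e4 hb
      obtain ⟨μ, a1, a2⟩ := exists_ne S 1
      exact a2 ((key μ a1).trans (key 1 one_ne_zero).symm)
    intro x hx y hy
    obtain ⟨b, h1, h2⟩ := hκ x hx y hy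
    rw [h0, zero_mul, pow_eq_zero_iff two_ne_zero] at h2
    rw [h1, h2, S.z_zero]
  have h2 : ∀ x ∈ X0, ∀ y ∈ X0, ⁅x, y⁆ ∈ S.Z := fun x hx y hy =>
    D.omega1 (cmm D X hx hy) (by rw [← pow_two]; exact altB hW D X 1 h1 x hx y hy)
  have hm : m = 1 := by
    by_contra hm
    obtain ⟨k, rfl⟩ : ∃ k, m = k + 1 + 1 := ⟨m - 2, by have := D.one_le; omega⟩
    have e1 : eta S r * eta S r = ⁅S.t * r * S.t⁻¹, r⁆ := by
      have ri := eq_inv_of_mul_eq_one_left r2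
      rw [commutatorElement_def, conj_inv, eta, ← ri]; group
    refine n1 ((D.fm_eq_zero (D.eta_mem (X.le_N hr))).2 ?_)
    rw [← sq_pow, ← sq_pow, e1, sq_Z S (h2 _ (tX D X hr) _ hr), one_pow]
  subst hm
  have yz : ∀ y ∈ Ys, y * y ∈ S.Z := fun y hy => by simpa [pow_two] using D.pow_mem_Z hy (D.exp y hy)
  have hY : Ys = Y := le_antisymm (fun y hy => D.omega2 hy (yz y hy)) D.Y_le
  refine ⟨hY, fun h0 => rZ (abel' D X (lemZ hW D X ?_) r hr r2), fun x hx => ?_, h2⟩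
  · obtain ⟨y, hy, e⟩ := D.fm_surj 1
    obtain ⟨b, e1, e2⟩ := hκ r hr y (hY ▸ hy)
    rw [h0, zero_mul, pow_eq_zero_iff two_ne_zero] at e2
    refine ⟨r, hr, rY, y, hy, fun w hw e3 => ?_, cm_one.1 (by rw [e1, e2, S.z_zero])⟩
    exact one_ne_zero (e.symm.trans ((D.sq_iff hy).2 ⟨w, hw, e3⟩))
  · by_cases hx' : x ∈ Ys
    · exact yz x hx'
    obtain ⟨k, hk, e⟩ := S.χ_surj _ (div_ne_zero (mt (X.ker x hx) hx') n1)
    have hr' := cjm (X.normH hk) hr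
    obtain ⟨y, hy, rfl⟩ := split D X hx hr' (by rw [D.psi_equiv k hk r (X.le_N hr), e, div_mul_cancel₀ _ n1])
    convert mul_mem (yz y hy) (h2 _ (inv_mem (X.Ys_le hy)) _ hr') using 1
    rw [commutatorElement_def, conj_inv, ← eq_inv_of_mul_eq_one_left r2]; group

theorem le_N : P ≤ P ⊓ 𝒩(TT S Ys) := by
  refine CL.Fus.le_of_inf_normalizer_le D.hP.isP fun g hg => ?_
  rw [← inf_assoc, inf_idem] at hg
  have ht := D.TT_le_N (mem_sup_right (mem_zpowers S.t))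
  have hr := cjm hg.2 ht
  have r2 : g * S.t * g⁻¹ * (g * S.t * g⁻¹) = 1 := by rw [conj_mul, S.t_sq]; group
  rcases X.mem _ hr with h | h
  · exfalso
    set r := g * S.t * g⁻¹ with hrd
    have rZ : r ∉ S.Z := fun hz => by
      have := D.cz (inv_mem hg.1) hz
      rw [show g⁻¹ * r * g⁻¹⁻¹ = S.t by rw [hrd]; group] at this
      obtain ⟨b, hb⟩ := hz
      exact S.t_ne b (this.trans hb.symm)
    have n1 := mt (X.ker _ h) fun h => rZ (D.omega1 h r2)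
    obtain ⟨κ, hκ⟩ := kappa hW D X
    obtain ⟨-, h0, -, h2⟩ := spec hW D X hκ ⟨r, h, r2, rZ⟩
    obtain ⟨μ, a1, a2⟩ := exists_ne S (fm S m (eta S r))
    obtain ⟨x, hx, rfl⟩ := X.surj μ
    obtain ⟨b, hb⟩ := h2 r h x hx
    obtain ⟨y, hy, e⟩ := D.hY.surj (b ^ 2 / (κ * fm S m (eta S r)))
    obtain ⟨b', e1, e2⟩ := hκ r h y hy
    obtain rfl : b' = b := sq_inj S (by rw [e2, e]; field_simp)
    have yX := X.Ys_le (D.Y_le hy)
    have c1 : r * (y * x) = y * x * r := cm_one.1 (by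
      rw [cm_right, ← hb, D.cz (X.le_N yX).1 (S.z_mem _), e1, S.z_sq])
    have c2 : fm S m (eta S (y * x)) = fm S m (eta S x) := by rw [pa D X y yX x hx, (pk D X y yX).2 (D.Y_le hy), zero_add]
    have c3 : g⁻¹ * (y * x) * g⁻¹⁻¹ ∈ S.F0 := D.hP.ct ⟨cjm (le_normalizer (inv_mem hg.1)) (X.le_N (mul_mem yX hx)).1,
      mem_centralizer_singleton_iff.2 (by
        calc g⁻¹ * (y * x) * g⁻¹⁻¹ * S.t = g⁻¹ * (y * x * r) * g := by rw [hrd]; group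
          _ = S.t * (g⁻¹ * (y * x) * g⁻¹⁻¹) := by rw [← c1, hrd]; group)⟩
    obtain ⟨a, e3 | e3⟩ := c3
    · have e4 : y * x = S.z a := by rw [← D.cz hg.1 (S.z_mem a), ← e3]; group
      exact a1 (by rw [← c2, e4]; exact (pk D X _ (X.Ys_le (D.Z_le (S.z_mem a)))).2 (D.Z_le (S.z_mem a)))
    · have e4 : y * x = r * S.z a := by
        rw [← D.cz hg.1 (S.z_mem a), hrd, conj_mul, ← e3]; group
      have zX := X.Ys_le (D.Z_le (S.z_mem a))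
      exact a2 (by rw [← c2, e4, pa D X r h _ zX, (pk D X _ zX).2 (D.Z_le (S.z_mem a)), add_zero])
  · have tt : ∀ w, S.t * (S.t * w) = w := fun w => by rw [← mul_assoc, S.t_sq, one_mul]
    obtain ⟨k, hk, e⟩ := conj D X _ (inv hW D X _ h (by rw [tt, r2]))
    rw [tt] at e
    have kN := X.le_N hk
    refine ((P ⊓ 𝒩(TT S Ys)).mul_mem_cancel_left (inv_mem kN)).1 (D.TT_le_N (D.F0_le (D.hP.ct
      ⟨P.mul_mem (P.inv_mem kN.1) hg.1, mem_centralizer_singleton_iff.2 ?_⟩)))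
    calc k⁻¹ * g * S.t = k⁻¹ * (g * S.t * g⁻¹) * g := by group
      _ = S.t * (k⁻¹ * g) := by rw [← e]; group

end

end ChB

open ChB in
theorem chainB_of (hW : WL2.{v}) : ChainB.{u, v} := by
  intro G _ _ F _ _ S P Y ph hP hY hle
  obtain ⟨Ys, m, D⟩ := exists_YsD S hP hY hle
  have fin : ∀ X0, P ≤ P ⊓ 𝒩(TT S Ys) → Ys ≤ X0 → X0 ≤ P → S.H ≤ 𝒩(X0) → S.t ∉ X0 → (∀ x ∈ P, x ∈ X0 ∨ S.t * x ∈ X0) →
      (X0 = Ys ∨ ∃ ψ κ, S.Cap Y ph Ys X0 ψ κ) → ∃ Ys X0, S.ChD Y ph P Ys X0 := fun X0 hN a b c d e f =>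
    ⟨Ys, X0, D.Y_le, a, b, D.normH, c, fun g hg => D.norm (hN hg), fun _ hx _ hy => D.comm hx hy, D.inv,
      fun _ hy => D.omega1 hy, fun _ hy => D.omega2 hy, d, e, fun _ hx => D.sq_mem (hN hx),
      fun _ hx _ hy => D.comm_mem (hN hx) (hN hy), D.layer, f⟩
  by_cases hn : P ⊓ 𝒩(TT S Ys) ≤ TT S Ys
  · have h : P ≤ TT S Ys := CL.Fus.le_of_inf_normalizer_le hP.isP (by rwa [inf_eq_right.2 D.TT_le])
    exact fin Ys (h.trans D.TT_le_N) le_rfl D.le_P D.normH D.t_not (fun x hx => D.mem_TT.1 (h hx)) (Or.inl rfl)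
  obtain ⟨X0, X⟩ := D.exists_XD hn
  obtain ⟨κ, hκ⟩ := kappa hW D X
  have hN := le_N hW D X
  exact fin X0 hN X.Ys_le (fun x hx => (X.le_N hx).1) X.normH (t_not D X) (fun x hx => X.mem x (hN hx))
    (Or.inr ⟨fun x => fm S m (eta S x), κ, pa D X, pk D X, X.surj, fun h hh x hx => D.psi_equiv h hh x (X.le_N hx),
      inv hW D X, conj D X, fun x hx y hy e => by_contra fun h => not_sq D X hx h y hy e, hκ, lemZ hW D X,
      fun ⟨x, hx, h1, h2⟩ => ⟨eta_case hW D X hx h1 h2, sq_onto D X (eta_case hW D X hx h1 h2) hx h1,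
        abel' D X (eta_case hW D X hx h1 h2)⟩, abel' D X, spec hW D X hκ⟩)

end CL.Std2
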