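/-
Project STD2, step T1: the first step of the chain.
-/
import Cfsg.Agent.Std2.Defs

set_option autoImplicit false
open Cfsg Subgroup CL.Even CL.Grp CL.Loc CL.Gold
open scoped commutatorElement

namespace CL.Std2

universe u v

namespace Sc

variable {G : Type u} [Group G] {F : Type v} [Field F] (S : Sc G F)

theorem exists_χ_ne_one : ∃ h ∈ S.H, S.χ h ≠ 0 ∧ S.χ h ≠ 1 := by
  by_contra! h
  have h1 : (Set.univ : Set F) ⊆ {0, 1} := fun x _ => or_iff_not_imp_left.2 fun h0 => by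
    obtain ⟨k, hk, rfl⟩ := S.χ_surj x h0
    exact h k hk h0
  have h2 := Set.ncard_le_ncard h1
  have h3 := Set.ncard_pair (zero_ne_one (α := F))
  have h4 := S.four
  rw [Set.ncard_univ] at h2
  omega

theorem χ_mul {h k : G} (hh : h ∈ S.H) (hk : k ∈ S.H) : S.χ (h * k) = S.χ h * S.χ k := S.z_inj (by
  rw [← S.H_z h hh, ← mul_one (S.χ k), ← S.H_z k hk, ← mul_one (S.χ (h * k)), ← S.H_z _ (mul_mem hh hk)]; group)

theorem χ_one : S.χ 1 = 1 := S.z_inj (by rw [← mul_one (S.χ 1), ← S.H_z 1 (one_mem _)]; simp)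

theorem χ_ne {h : G} (hh : h ∈ S.H) : S.χ h ≠ 0 := fun e => by
  have := S.χ_mul hh (inv_mem hh)
  rw [e, zero_mul, mul_inv_cancel, S.χ_one] at this
  exact one_ne_zero this

theorem H_comm {h k : G} (hh : h ∈ S.H) (hk : k ∈ S.H) : h * k = k * h := by
  have h1 := S.χ_mul (mul_mem hh hk) (inv_mem (mul_mem hk hh))
  have h2 := S.χ_mul (mul_mem hk hh) (inv_mem (mul_mem hk hh))
  rw [S.χ_mul hh hk, mul_comm (S.χ h), ← S.χ_mul hk hh, ← h2, mul_inv_cancel, S.χ_one] at h1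
  exact mul_inv_eq_one.1 (S.χ_inj _ (mul_mem (mul_mem hh hk) (inv_mem (mul_mem hk hh))) h1)

theorem F0_sq {x : G} (hx : x ∈ S.F0) : x * x = 1 := by
  obtain ⟨b, rfl | rfl⟩ := hx
  · exact S.z_sq b
  · rw [mul_assoc, ← mul_assoc (S.z b), ← S.t_z, mul_assoc, S.z_sq, mul_one, S.t_sq]

theorem F0_t {x : G} (hx : x ∈ S.F0) : x * S.t = S.t * x := by
  obtain ⟨b, rfl | rfl⟩ := hx
  · exact (S.t_z b).symm
  · rw [mul_assoc, S.t_z]

theorem H_norm_F0 : S.H ≤ 𝒩(S.F0) := le_norm_of_cj_le fun h hh => by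
  rintro _ ⟨_, ⟨b, rfl | rfl⟩, rfl⟩
  · exact ⟨_, Or.inl (S.H_z h hh b)⟩
  · exact ⟨_, Or.inr (by rw [← S.H_z h hh b, ← mul_assoc, ← mul_assoc, ← S.H_t h hh]; simp [mul_assoc])⟩

variable {S}

theorem z_comm_of {g : G} (hg : g ∈ 𝒞(S.Z)) (b : F) : g * S.z b = S.z b * g := (comm_of_mem hg (S.z_mem b)).symm

theorem mem_norm_F0 [Finite G] {g : G} (hg : g ∈ 𝒞(S.Z)) {b : F} (e : g * S.t * g⁻¹ = S.t * S.z b) :
    g ∈ 𝒩(S.F0) := by
  refine cj_eq_iff_mem.1 (eq_of_le_of_card_ge ?_ (card_cj _ _).ge)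
  rintro _ ⟨_, ⟨a, rfl | rfl⟩, rfl⟩
  · exact ⟨a, Or.inl (conj_eq_of_mem hg (S.z_mem a))⟩
  · refine ⟨b + a, Or.inr ?_⟩
    change g * _ * g⁻¹ = _
    rw [← conj_mul, e, conj_eq_of_mem hg (S.z_mem a), S.z_add, mul_assoc]

theorem exists_conj_t {g : G} (hg : g ∈ 𝒞(S.Z)) (hn : g ∈ 𝒩(S.F0)) : ∃ b, g * S.t * g⁻¹ = S.t * S.z b := by
  obtain ⟨b, e | e⟩ := conj_mem hn S.t_mem_F0
  · exact absurd (mul_left_cancel ((mul_inv_eq_iff_eq_mul.1 e).trans (z_comm_of hg b).symm)) (S.t_ne b)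
  · exact ⟨b, e⟩

namespace YD

variable {Y : Subgroup G} {ph : G → F} {c : F} (h : S.YD Y ph c)
include h

theorem conj_t {y : G} (hy : y ∈ Y) : y⁻¹ * S.t * y = S.t * S.z (ph y) := by
  rw [S.t_z, mul_assoc, mul_inv_eq_iff_eq_mul.1 (h.tY y hy)]; group

theorem t_norm' : S.t ∈ 𝒩(Y) := by
  have : ∀ y ∈ Y, S.t * y * S.t⁻¹ ∈ Y := fun y hy => h.tY y hy ▸ mul_mem hy (h.Z_le (S.z_mem _))
  refine mem_normalizer_iff.2 fun y => ⟨this y, fun hy => ?_⟩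
  have h1 := this _ hy
  rwa [S.t_inv, ← mul_assoc, ← mul_assoc, S.t_sq, one_mul, mul_assoc, S.t_sq, mul_one] at h1

theorem mem_sup {x : G} (hx : x ∈ Y ⊔ zpowers S.t) : x ∈ Y ∨ x * S.t ∈ Y := by
  obtain ⟨y, hy, _, ⟨k, rfl⟩, rfl⟩ := (mem_sup_nl (zpowers_le.2 h.t_norm')).1 hx
  have h3 : S.t ^ (2 : ℤ) = 1 := by rw [zpow_two, S.t_sq]
  rcases Int.even_or_odd' k with ⟨j, rfl | rfl⟩
  · left; simpa [zpow_mul, h3] using hy
  · right; simpa [zpow_add, zpow_mul, h3, mul_assoc, S.t_sq] using hy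

theorem F0_le : S.F0 ≤ Y ⊔ zpowers S.t := by
  rintro _ ⟨b, rfl | rfl⟩
  · exact mem_sup_left (h.Z_le (S.z_mem b))
  · exact mul_mem (mem_sup_right (mem_zpowers _)) (mem_sup_left (h.Z_le (S.z_mem b)))

theorem ph_mul_z {y : G} (hy : y ∈ Y) (b : F) : ph (y * S.z b) = ph y := S.z_inj (by
  have h1 := h.tY _ (mul_mem hy (h.Z_le (S.z_mem b)))
  rw [← conj_mul, h.tY y hy, S.t_z, mul_inv_cancel_right, mul_assoc, S.z_comm, ← mul_assoc] at h1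
  exact (mul_left_cancel h1).symm)

theorem ph_z (b : F) : ph (S.z b) = 0 := S.z_eq_one.1 (by
  have h1 := h.tY _ (h.Z_le (S.z_mem b))
  rwa [S.t_z, mul_inv_cancel_right, eq_comm, mul_eq_left] at h1)

end YD

namespace ChH

variable {P : Subgroup G} (hP : S.ChH P)
include hP

theorem norm_le {Y : Subgroup G} {ph : G → F} {c : F} (h : S.YD Y ph c) (hY : Y ≤ P) :
    P ⊓ 𝒩(S.F0) ≤ Y ⊔ zpowers S.t := fun g hg => by
  obtain ⟨b, e⟩ := exists_conj_t (hP.cent hg.1) hg.2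
  obtain ⟨y, hy, rfl⟩ := h.surj b
  refine (mul_mem_cancel_left (mem_sup_left hy)).1 (h.F0_le (hP.ct ⟨mul_mem (hY hy) hg.1,
    mem_centralizer_singleton_iff.2 ?_⟩))
  rw [← h.conj_t hy] at e
  calc _ = y * (g * S.t * g⁻¹) * g := by group
    _ = _ := by rw [e]; group

theorem le_of_ne [Finite G] {Y : Subgroup G} {ph : G → F} {c : F} (h : S.YD Y ph c) (hY : Y ≤ P) (hc : c ≠ 1) :
    P ≤ Y ⊔ zpowers S.t := by
  by_contra h1
  have h2 := lt_inf_normalizer_of_isPGroup hP.isP (lt_of_le_of_ne (sup_le hY (zpowers_le.2 (hP.F0_le S.t_mem_F0)))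
    fun e => h1 e.ge)
  refine h2.not_ge fun g hg => hP.norm_le h hY ⟨hg.1, ?_⟩
  have gZ := hP.cent hg.1
  rcases h.mem_sup (conj_mem hg.2 (mem_sup_right (mem_zpowers _))) with e | e
  · exfalso
    have key : ∀ y ∈ Y, ph y ≠ 0 → ∃ b, g⁻¹ * y * g = S.t * S.z b := fun y hy h0 => by
      obtain ⟨b, e' | e'⟩ := hP.ct (x := g⁻¹ * y * g) (mem_inf.2 ⟨mul_mem (mul_mem (inv_mem (mem_inf.1 hg).1)
        (hY hy)) (mem_inf.1 hg).1, mem_centralizer_singleton_iff.2 (by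
          calc _ = g⁻¹ * (y * (g * S.t * g⁻¹)) * g := by group
            _ = _ := by rw [h.comm y hy _ e]; group)⟩)
      · refine absurd ?_ h0
        rw [show y = g * S.z b * g⁻¹ by rw [← e']; group, conj_eq_of_mem gZ (S.z_mem b), h.ph_z]
      · exact ⟨b, e'⟩
    obtain ⟨μ, -, h0, h3⟩ := S.exists_χ_ne_one
    obtain ⟨y, hy, e''⟩ := h.surj (S.χ μ)
    rw [← e''] at h0 h3
    obtain ⟨y', hy', e'⟩ := h.surj 1
    obtain ⟨b, hb⟩ := key y hy h0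
    obtain ⟨b', hb'⟩ := key y' hy' (e' ▸ one_ne_zero)
    refine h3 ?_
    rw [← e', ← h.ph_mul_z hy' (b' + b), ← conj_eq_of_mem gZ (S.z_mem (b' + b)), S.z_add]
    congr 1
    calc y = g * (S.t * S.z b' * (S.z b' * S.z b)) * g⁻¹ := by
          rw [mul_assoc S.t, ← mul_assoc (S.z b'), S.z_sq, one_mul, ← hb]; group
      _ = _ := by rw [← hb']; group
  · have h3 := h.tY _ e
    have h4 := h.sq _ e
    set y := g * S.t * g⁻¹ * S.t with hy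
    have h5 : y * (S.t * y * S.t⁻¹) = 1 := by
      rw [hy, S.t_inv]
      calc _ = g * S.t * g⁻¹ * (S.t * S.t) * (g * S.t * g⁻¹) * (S.t * S.t) := by group
        _ = _ := by rw [S.t_sq, mul_one, mul_one, conj_mul, S.t_sq]; group
    rw [h3, ← mul_assoc, h4, ← S.z_add, S.z_eq_one] at h5
    obtain ⟨b, hb⟩ := h.ker y e (by_contra fun h0 => hc (mul_right_cancel₀ h0 (by
      linear_combination h5 - S.add_self (ph y))))
    exact mem_norm_F0 gZ (b := b) (by rw [S.t_z, hb, hy, mul_assoc (g * _ * _), S.t_sq, mul_one])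

theorem exists_YD [Finite G] [Finite F] (hW : WL2.{v}) (h1 : ¬ P ≤ S.F0) : ∃ Y ph c, S.YD Y ph c ∧ Y ≤ P := by
  set N := P ⊓ 𝒩(S.F0) with hN
  have lt : S.F0 < N := lt_inf_normalizer_of_isPGroup hP.isP (lt_of_le_of_ne hP.F0_le fun e => h1 e.ge)
  have HN : S.H ≤ 𝒩(N) := le_norm_inf hP.normH (S.H_norm_F0.trans le_normalizer)
  have NZ : ∀ g ∈ N, ∀ b, g * S.z b * g⁻¹ = S.z b := fun g hg b => conj_eq_of_mem (hP.cent hg.1) (S.z_mem b)
  let lg : G → F := Function.invFun S.z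
  have lg1 : ∀ x ∈ S.Z, S.z (lg x) = x := fun x hx => Function.invFun_eq hx
  let η : G → F := fun g => lg (S.t⁻¹ * (g * S.t * g⁻¹))
  have η1 : ∀ g ∈ N, g * S.t * g⁻¹ = S.t * S.z (η g) := fun g hg => by
    obtain ⟨b, e⟩ := exists_conj_t (hP.cent hg.1) hg.2
    rw [lg1 _ ⟨b, by rw [e, inv_mul_cancel_left]⟩, mul_inv_cancel_left]
  have η2 : ∀ g ∈ N, ∀ b, g * S.t * g⁻¹ = S.t * S.z b → η g = b := fun g hg b e =>
    S.z_inj (mul_left_cancel ((η1 g hg).symm.trans e))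
  have ηm : ∀ g ∈ N, ∀ k ∈ N, η (g * k) = η g + η k := fun g hg k hk => η2 _ (mul_mem hg hk) _ (by
    rw [S.z_add, ← mul_assoc, ← η1 g hg, ← NZ g hg, conj_mul, ← η1 k hk]; group)
  have η0 : ∀ g ∈ N, η g = 0 ↔ g ∈ S.F0 := fun g hg => ⟨fun e => hP.ct ⟨hg.1, mem_centralizer_singleton_iff.2
    (mul_inv_eq_iff_eq_mul.1 (by rw [η1 g hg, e, S.z_zero, mul_one]))⟩,
    fun e => η2 g hg 0 (by rw [S.F0_t e, S.z_zero, mul_one, mul_inv_cancel_right])⟩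
  have ηi : ∀ g ∈ N, η g⁻¹ = η g := fun g hg => by
    have := ηm g hg _ (inv_mem hg)
    rw [mul_inv_cancel, (η0 1 (one_mem _)).2 (one_mem _)] at this
    linear_combination -this - S.add_self (η g)
  have ηH : ∀ h ∈ S.H, ∀ g ∈ N, η (h * g * h⁻¹) = S.χ h * η g := fun h hh g hg =>
    η2 _ (conj_mem (HN hh) hg) _ (by
      have e := mul_inv_eq_iff_eq_mul.2 (S.H_t h hh)
      calc _ = h * g * h⁻¹ * (h * S.t * h⁻¹) * (h * g * h⁻¹)⁻¹ := by rw [e]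
        _ = h * (g * S.t * g⁻¹) * h⁻¹ := by group
        _ = _ := by rw [η1 g hg, ← conj_mul, e, S.H_z h hh])
  have sqZ : ∀ g ∈ N, g * g ∈ S.Z := fun g hg => by
    obtain ⟨b, e | e⟩ := (η0 _ (mul_mem hg hg)).1 (by rw [ηm g hg g hg, S.add_self])
    · exact ⟨b, e.symm⟩
    · have h2 := η1 g hg
      rw [← mul_left_inj (S.z b), ← NZ g hg b, conj_mul, ← e, NZ g hg, mul_assoc g, mul_inv_cancel_right, e,
        mul_left_inj, eq_comm, mul_eq_left, S.z_eq_one] at h2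
      rw [S.F0_sq ((η0 g hg).1 h2)]; exact one_mem _
  have cZ : ∀ g ∈ N, ∀ k ∈ N, ⁅g, k⁆ ∈ S.Z := fun g hg k hk => by
    have := mul_mem (mul_mem (sqZ g hg) (sqZ _ (mul_mem (inv_mem hg) hk))) (inv_mem (sqZ k hk))
    convert this using 1; rw [commutatorElement_def]; group
  obtain ⟨h₀, hh₀, -, μ1⟩ := S.exists_χ_ne_one
  have μ2 : S.χ h₀ + 1 ≠ 0 := fun e => μ1 (by linear_combination e - S.two)
  have cN : ∀ g ∈ N, ⁅h₀, g⁆ ∈ N := fun g hg => mul_mem (conj_mem (HN hh₀) hg) (inv_mem hg)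
  have ZN : ∀ b, S.z b ∈ N := fun b => lt.le (S.Z_le_F0 (S.z_mem b))
  have zc : ∀ g ∈ N, ∀ b, S.z b * g = g * S.z b := fun g hg b => (z_comm_of (hP.cent hg.1) b).symm
  have ηz : ∀ g ∈ N, ∀ b, η (g * S.z b) = η g := fun g hg b => by
    rw [ηm g hg _ (ZN b), (η0 _ (ZN b)).2 (S.Z_le_F0 (S.z_mem b)), add_zero]
  have ηc : ∀ g ∈ N, ∀ b, η (⁅h₀, g⁆ * S.z b) = (S.χ h₀ + 1) * η g := fun g hg b => by
    rw [ηz _ (cN g hg), commutatorElement_def, ηm _ (conj_mem (HN hh₀) hg) _ (inv_mem hg), ηi g hg, ηH _ hh₀ g hg]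
    ring
  let Y : Subgroup G :=
    { carrier := {y | ∃ g ∈ N, ∃ b, y = ⁅h₀, g⁆ * S.z b}
      one_mem' := ⟨1, one_mem _, 0, by simp [S.z_zero]⟩
      mul_mem' := by
        rintro _ _ ⟨g, hg, a, rfl⟩ ⟨k, hk, b, rfl⟩
        obtain ⟨c, hc⟩ := cZ _ (inv_mem (cN k hk)) _ hg
        refine ⟨g * k, mul_mem hg hk, c + (a + b), ?_⟩
        rw [S.z_add, S.z_add, ← S.z_inv c, hc, mul_assoc, ← mul_assoc (S.z a), zc _ (cN k hk)]
        simp only [commutatorElement_def]; group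
      inv_mem' := by
        rintro _ ⟨g, hg, a, rfl⟩
        obtain ⟨c, hc⟩ := sqZ _ (cN g hg)
        refine ⟨g, hg, c + a, ?_⟩
        rw [mul_inv_rev, S.z_inv, zc _ (inv_mem (cN g hg)), S.z_add, ← S.z_inv c, hc]; group }
  have YN : Y ≤ N := by rintro _ ⟨g, hg, b, rfl⟩; exact mul_mem (cN g hg) (ZN b)
  have ZY : S.Z ≤ Y := by rintro _ ⟨b, rfl⟩; exact ⟨1, one_mem _, b, by simp⟩
  have HY : S.H ≤ 𝒩(Y) := le_norm_of_cj_le fun h hh => by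
    rintro _ ⟨_, ⟨g, hg, b, rfl⟩, rfl⟩
    refine ⟨_, conj_mem (HN hh) hg, S.χ h * b, ?_⟩
    change h * _ * h⁻¹ = _
    rw [← conj_mul, S.H_z h hh, conjugate_commutatorElement, S.H_comm hh hh₀, mul_inv_cancel_right]
  have ker : ∀ y ∈ Y, η y = 0 → y ∈ S.Z := by
    rintro _ ⟨g, hg, b, rfl⟩ e
    rw [ηc g hg, mul_eq_zero, η0 g hg] at e
    refine mul_mem ?_ (S.z_mem b)
    obtain ⟨a, rfl | rfl⟩ := e.resolve_left μ2
    · rw [commutatorElement_def, S.H_z _ hh₀]; exact mul_mem (S.z_mem _) (inv_mem (S.z_mem _))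
    · have e' := mul_inv_eq_iff_eq_mul.2 (S.H_t _ hh₀)
      rw [commutatorElement_def, ← conj_mul, e', S.H_z _ hh₀, S.t_z, S.t_z]
      simpa [mul_assoc] using mul_mem (S.z_mem _) (inv_mem (S.z_mem a))
  have surj : ∀ b, ∃ y ∈ Y, η y = b := fun b => by
    obtain ⟨g, hg, h2⟩ := SetLike.exists_of_lt lt
    by_cases hb : b = 0
    · exact ⟨1, one_mem _, hb ▸ (η0 1 (one_mem _)).2 (one_mem _)⟩
    have h3 := mul_ne_zero μ2 (mt (η0 g hg).1 h2)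
    obtain ⟨h, hh, e⟩ := S.χ_surj _ (div_ne_zero hb h3)
    have hy : ⁅h₀, g⁆ * S.z 0 ∈ Y := ⟨g, hg, 0, rfl⟩
    exact ⟨_, conj_mem (HY hh) hy, by rw [ηH h hh _ (YN hy), ηc g hg, e, div_mul_cancel₀ _ h3]⟩
  choose s sY sη using surj
  have dec : ∀ y ∈ Y, ∃ b, y = s (η y) * S.z b := fun y hy => by
    obtain ⟨b, e⟩ := ker _ (mul_mem (inv_mem (sY (η y))) hy) (by
      rw [ηm _ (inv_mem (YN (sY _))) _ (YN hy), ηi _ (YN (sY _)), sη, S.add_self])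
    exact ⟨b, by rw [e, mul_inv_cancel_left]⟩
  let γ : F → F → F := fun a b => lg ⁅s a, s b⁆
  have γ1 : ∀ x ∈ Y, ∀ y ∈ Y, S.z (γ (η x) (η y)) = ⁅x, y⁆ := fun x hx y hy => by
    obtain ⟨a, ha⟩ := dec x hx
    obtain ⟨b, hb⟩ := dec y hy
    rw [lg1 _ (cZ _ (YN (sY _)) _ (YN (sY _)))]
    have e1 := NZ _ (YN (sY (η x))) b
    have e2 := zc _ (YN hy) a
    calc _ = s (η x) * s (η y) * (s (η x))⁻¹ * (s (η x) * S.z b * (s (η x))⁻¹) * (s (η y) * S.z b)⁻¹ := by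
          rw [e1, commutatorElement_def]; group
      _ = s (η x) * (y * S.z a) * (s (η x) * S.z a)⁻¹ * y⁻¹ := by rw [← hb]; nth_rw 3 [hb]; group
      _ = _ := by rw [← e2, ← mul_assoc, ← ha, commutatorElement_def]
  have γ2 : ∀ a b, S.z (γ a b) = ⁅s a, s b⁆ := fun a b => lg1 _ (cZ _ (YN (sY _)) _ (YN (sY _)))
  obtain ⟨κ, hκ⟩ := hW S.two γ (fun a a' b => S.z_inj (by
      rw [← sη a, ← sη a', ← ηm _ (YN (sY _)) _ (YN (sY _)), ← sη b, γ1 _ (mul_mem (sY _) (sY _)) _ (sY _), sη, sη, sη,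
        add_comm, S.z_add, ← NZ _ (YN (sY a)), γ2, γ2]
      simp only [commutatorElement_def]; group))
    (fun a b b' => S.z_inj (by
      rw [← sη b, ← sη b', ← ηm _ (YN (sY _)) _ (YN (sY _)), ← sη a, γ1 _ (sY _) _ (mul_mem (sY _) (sY _)), sη, sη, sη,
        S.z_add, ← NZ _ (YN (sY b)) (γ a b'), γ2, γ2]
      simp only [commutatorElement_def]; group))
    (fun μ a b hμ => S.z_inj (by
      obtain ⟨h, hh, rfl⟩ := S.χ_surj μ hμ
      rw [← S.H_z h hh, γ2 a, conjugate_commutatorElement, ← γ1 _ (conj_mem (HY hh) (sY _)) _ (conj_mem (HY hh) (sY _)),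
        ηH h hh _ (YN (sY _)), ηH h hh _ (YN (sY _)), sη, sη]))
  obtain rfl : κ = 0 := by
    have := hκ 1 1
    rwa [S.z_eq_one.1 ((γ2 1 1).trans (commutatorElement_self _)), mul_one, mul_one, sq, mul_zero, eq_comm] at this
  have sq1 : ∀ y ∈ Y, y * y = s (η y) * s (η y) := fun y hy => by
    obtain ⟨b, hb⟩ := dec y hy
    nth_rw 1 2 [hb]
    rw [mul_assoc, ← mul_assoc (S.z b), zc _ (YN (sY _)), mul_assoc, S.z_sq, mul_one]
  obtain ⟨c, hc⟩ := sqZ _ (YN (sY 1))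
  refine ⟨Y, η, c, ⟨ZY, fun x hx y hy => commutatorElement_eq_one_iff_mul_comm.1 ?_, HY, fun y hy => ?_,
    fun b => ⟨_, sY b, sη b⟩, ker, fun y hy => ?_⟩, YN.trans inf_le_left⟩
  · rw [← γ1 x hx y hy, S.z_eq_one]
    simpa using hκ (η x) (η y)
  · rw [← ηi y (YN hy), mul_inv_eq_iff_eq_mul, mul_assoc, ← S.t_z, ← η1 _ (inv_mem (YN hy))]; group
  · by_cases h0 : η y = 0
    · obtain ⟨b, rfl⟩ := ker y hy h0
      rw [h0, mul_zero, S.z_zero, S.z_sq]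
    · obtain ⟨h, hh, e⟩ := S.χ_surj _ h0
      rw [mul_comm c, ← e, ← S.H_z h hh, hc, ← conj_mul, sq1 _ (conj_mem (HY hh) (sY 1)), ηH h hh _ (YN (sY 1)), sη,
        mul_one, e, sq1 y hy]

end ChH

end Sc

theorem chainA_of (hW : WL2.{v}) : ChainA.{u, v} := fun _ _ hP =>
  ⟨hP.exists_YD hW, fun _ _ _ h hY => ⟨hP.norm_le h hY, hP.le_of_ne h hY⟩⟩

end CL.Std2
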